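import Cfsg.Agent.Lib.H17.SpNOrd.Lv2Facts

set_option autoImplicit false
set_option maxRecDepth 100000

/-! # Steps of the coset enumeration SpNOrd Lv2, part 0 (generated) -/

namespace Cfsg.Agent.Lib.H17.SpNOrd.Lv2

open Cfsg.Spor Cfsg.Agent.Lib.H17.CosetCert Cfsg.Agent.Lib.H17.CoxGlue Cfsg.Agent.Lib.H17.SpNGlue Cfsg.Agent.Lib.H17.SubChain Cfsg.Agent.Lib.H17.SpNOrd

/-- steps 0 … -/
def steps0 : List ℕ := [0x2, 0x0, 0x0, 0x0, 0x0, 0x0, 0x0, 0x0, 0x0, 0x0, 0x7000006000005000004000003000002000001000000000001000002000003000004000005000006000007000008000009000009000008000011000002000007000001]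

theorem chk0 : checkSteps F 2 16777216 words steps0 0 1 = some 10 := by
  decide +kernel

theorem len0 : steps0.length = 11 := by
  decide +kernel

end Cfsg.Agent.Lib.H17.SpNOrd.Lv2
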