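import Cfsg.Agent.Lib.H17.SpNOrd.Base

set_option autoImplicit false
set_option maxRecDepth 100000

/-! # Facts of the coset enumeration SpNOrd Lv3 (generated) -/

namespace Cfsg.Agent.Lib.H17.SpNOrd.Lv3

open Cfsg.Spor Cfsg.Agent.Lib.H17.CosetCert Cfsg.Agent.Lib.H17.CoxGlue Cfsg.Agent.Lib.H17.SpNGlue Cfsg.Agent.Lib.H17.SubChain Cfsg.Agent.Lib.H17.SpNOrd

/-- the packed facts -/
def factTree : BT := .node (.leaf 0x1b4ac0b06326c1a248510248810000) (.leaf 0x0)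

/-- the fact with a given number -/
noncomputable def F (f : ℕ) : ℕ × ℕ × ℕ :=
  factOf factTree 1 1024 10 1024 3 8 f

/-- the words of the enumeration -/
def words : WT := .node (.node (.node (.node (.leaf [0, 1, 0, 1, 0, 1, 0, 1, 0, 1, 0, 1, 0, 1, 0, 1, 0, 1, 0, 1] true) (.leaf [2, 2] true)) (.node (.leaf [0] false) (.nil))) (.node (.node (.leaf [1, 2, 1, 2, 1, 2] true) (.nil)) (.node (.leaf [0, 0] true) (.nil)))) (.node (.node (.node (.leaf [0, 2, 0, 2] true) (.leaf [] true)) (.node (.leaf [1] false) (.nil))) (.node (.node (.leaf [0, 1, 0, 1, 2, 1, 0, 1, 0, 2, 1, 0, 2, 1, 2] true) (.nil)) (.node (.leaf [1, 1] true) (.nil))))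

theorem words_spec : ∀ v ∈ words.toList, (∀ x ∈ v.1, x < 3) ∧ (v.2 = true → v.1.map ι ∈ relW) ∧
    (v.2 = false → ∃ x < 2, v.1 = [x]) := by
  decide

end Cfsg.Agent.Lib.H17.SpNOrd.Lv3
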