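import Cfsg.Agent.Lib.H17.SpNOrd.Lv4Facts

set_option autoImplicit false
set_option maxRecDepth 100000

/-! # Final table of the coset enumeration SpNOrd Lv4 (generated) -/

namespace Cfsg.Agent.Lib.H17.SpNOrd.Lv4

open Cfsg.Spor Cfsg.Agent.Lib.H17.CosetCert Cfsg.Agent.Lib.H17.CoxGlue Cfsg.Agent.Lib.H17.SpNGlue Cfsg.Agent.Lib.H17.SubChain Cfsg.Agent.Lib.H17.SpNOrd

/-- rows 0 … -/
def rows0 : List ℕ := [0x3000002000001000000000000, 0x3000005000006000004000001, 0x700000a000006000008000002, 0x900000e00000d000008000003, 0xc00000a00000b00000f000004, 0x1300001200000d000011000005, 0x1000000e00001500000f000006, 0x19000017000053000011000007, 0x1d00001200001b000018000008, 0x1300001e00001400001a000009, 0x2000001c00001500001f00000a, 0x2400001700002300001800000c, 0x1900002600002700001a00000d, 0x2b00001c00001b00002800000e, 0x1d00001e00002d00002500000f, 0x3900002900002f00001f000010, 0x2000002c00002100003a000011, 0x31000032000023000036000013, 0x2400002600003b000025000014, 0x3800003e00002700003c000015, 0x4000002900002a000028000016, 0x2b00002c000044000041000017, 0x4600002e00002d000037000018, 0x3100003000002f000035000019,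 0x3900004200003b00003a00001a, 0x3d00004b00004800003c00001b, 0x3f00003e00004300004c00001c, 0x4000004200004300004100001d, 0x4600004500004400004700001e, 0x4f00004900004800004a00001f, 0x4e00004b00004d00004c000020, 0x4f000052000051000050000021]

/-- the mask of the final nodes -/
def mask : ℕ := 0x3fffbf7ff

/-- all rows -/
def rows : List ℕ := rows0

theorem rows0_ok : checkRows F 4 16777216 84 mask rows0 = true := by
  decide +kernel

theorem rows_ok : checkRows F 4 16777216 84 mask rows = true := rows0_ok

theorem mask_ok : maskOf 16777216 rows 0 = mask := by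
  decide +kernel

theorem mask_zero : tb mask 0 = true := by
  decide +kernel

theorem rows_length : rows.length = 32 := by
  decide +kernel

end Cfsg.Agent.Lib.H17.SpNOrd.Lv4
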