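import Cfsg.Agent.Lib.H17.SpNOrd.Lv4Facts

set_option autoImplicit false
set_option maxRecDepth 100000

/-! # Steps of the coset enumeration SpNOrd Lv4, part 0 (generated) -/

namespace Cfsg.Agent.Lib.H17.SpNOrd.Lv4

open Cfsg.Spor Cfsg.Agent.Lib.H17.CosetCert Cfsg.Agent.Lib.H17.CoxGlue Cfsg.Agent.Lib.H17.SpNGlue Cfsg.Agent.Lib.H17.SubChain Cfsg.Agent.Lib.H17.SpNOrd

/-- steps 0 … -/
def steps0 : List ℕ := [0x9, 0xa, 0xb, 0x0, 0x3000003000000000001000002000000000003, 0x3000003000002000001000002000000000006, 0x0, 0x3000001000003000006000006000004000001000001000005, 0x0, 0x7000008000008000002000001000002000003, 0x0, 0x500000600000a00000a000006000003000002000001000004, 0x700000a00000a000002000001000002000006, 0x0, 0x0, 0xa00000e000008000001000002000002000002, 0x900000e00000e000002000001000003000006, 0x0, 0x0, 0x0, 0x900000d00001300001300000d000003000002000003000005, 0x0, 0x0, 0x0, 0x12000017000011000001000002000005000002, 0x0, 0x13000019000011000001000002000005000003, 0x0, 0x1200000d00000e00001500001b000004000001000008000004, 0x0, 0x1300001d000012000001000002000005000006, 0x0, 0x0, 0x10000015000020000020000015000003000002000006000005, 0x0, 0x0, 0x0, 0x1d000024000018000001000002000008000003, 0x19000024000017000001000002000007000006,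 0x0, 0x0, 0x1c00001f00002800000200000100000e000002, 0x1c00001500000e00000800000600000500000400000600000800000d00001200001b00002800002800000d00000100000e000007, 0x0, 0x2000002b00001c00000100000200000a000006, 0x0, 0x1e00001400001e00002d00002d00000400000100000f000004, 0x0, 0x2900002a00002900002f00002f000004000001000010000004, 0xa00000600000300000100000000000100000000000200000300000600000800000900000d00001200001800002300002f00001f00001500000f000010000004000004000008, 0x31000031000030000001000002000019000006, 0x2200001600001700002300003200002300000000000600000c000004, 0x2200003300001700000000000300000700000e, 0x2900002f00003000002f00002900002800001b00001800002300003200002300001800001b00002800000300000b000016000007, 0xe00000d00001200001800002300003200002300001800001b00001c00001500000f00000b00000f000006000008000006000007, 0x1c00001500001000001500001f00002f00003500003000003100002300001800001d00002d00002e00002d00001d00001b00002800002a00002800000e00000600000e000008, 0x2600002700002700001a00001400001a00002600002400002300003600003100002f00002900002800001b00001d00002d00003700002d000025000002000012000014000008, 0x0, 0x2000003900001f00000100000200000a000003, 0x3100002300002400003900002f000003000002000019000005, 0x0,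 0x3800003c00003c000002000001000015000003, 0x0, 0x3800003e00003e000002000001000015000006, 0x0, 0x2b00004000002800000100000200000e000003, 0x39000040000029000001000002000010000006, 0x3e00002700002600003b00004200000500000000001c000004, 0x0, 0x2c00002100002c000044000044000004000001000017000004, 0x2b00001b00001d00002d000044000004000001000017000005, 0x4200003b00002600001a00001400001e00002500003b00003a00002100002c00004400004400004100000c00000200001d000007, 0x0, 0x1e00002d00002e00003700002d00001e00001a00002700003c00004800004800003c00002700001a00000a000004000009000007, 0x4200004300003e00003c00004800004900004800003c00002700002600003b00003a00002100003a00000600000800001a000007, 0x0, 0x3e00004b00003c000001000002000015000002, 0x4900004800004b00004b00004800000300000200001f000004, 0x3d00004b00004b00000200000100001b000006, 0x0, 0x4f00004f00004a00000100000200001f000003, 0x3d00004800004f00004f00004800000300000200001b000005, 0x4f00004f00004900000100000200001f000006, 0x3400001600000000000200000700000d]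

theorem chk0 : checkSteps F 4 16777216 words steps0 0 1 = some 34 := by
  decide +kernel

theorem len0 : steps0.length = 84 := by
  decide +kernel

end Cfsg.Agent.Lib.H17.SpNOrd.Lv4
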